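import Cfsg.Agent.Sig.L

/-! Solvable signalizer functors: definitions, members, reduction to a locally complete
counterexample. -/

set_option autoImplicit false
open Cfsg Subgroup Cfsg.Agent.GT Cfsg.Agent.BG
open scoped commutatorElement

namespace Cfsg.Agent.Sig
universe u
variable {G : Type u} [Group G] {π : Set ℕ} {p q r : ℕ} {A B D H K L M N S T U V W X Y Z : Subgroup G}
  {θ : G → Subgroup G} {a b c : G}

/-- a solvable `A`-signalizer functor, `A` elementary abelian of odd order `p ^ 3` -/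
structure SF (p : ℕ) (A : Subgroup G) (θ : G → Subgroup G) : Prop where
  hp : p.Prime
  hp2 : p ≠ 2
  hA : PnElem p 3 ⊤ A
  cent : ∀ a ∈ A, a ≠ 1 → θ a ≤ C1[a]
  norm : ∀ a ∈ A, a ≠ 1 → A ≤ N[θ a]
  solv : ∀ a ∈ A, a ≠ 1 → Group.IsSolvable (θ a)
  cop : ∀ a ∈ A, a ≠ 1 → ¬ p ∣ Nat.card (θ a)
  bal : ∀ a ∈ A, a ≠ 1 → ∀ b ∈ A, b ≠ 1 → θ a ⊓ C1[b] ≤ θ b

/-- `θ`-subgroups -/
structure Mem (p : ℕ) (A : Subgroup G) (θ : G → Subgroup G) (U : Subgroup G) : Prop where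
  norm : A ≤ N[U]
  solv : Group.IsSolvable U
  cop : ¬ p ∣ Nat.card U
  cent : ∀ a ∈ A, a ≠ 1 → U ⊓ C1[a] ≤ θ a

def Complete (p : ℕ) (A : Subgroup G) (θ : G → Subgroup G) : Prop :=
  ∃ M, Mem p A θ M ∧ ∀ a ∈ A, a ≠ 1 → θ a ≤ M

/-- `θ(C(B))` -/
def CB (θ : G → Subgroup G) (B : Subgroup G) : Subgroup G := ⨅ (b : G) (_ : b ∈ B) (_ : b ≠ 1), θ b

theorem CB_le (hb : b ∈ B) (h1 : b ≠ 1) : CB θ B ≤ θ b :=
  iInf_le_of_le b (iInf_le_of_le hb (iInf_le_of_le h1 le_rfl))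

theorem le_CB (h : ∀ b ∈ B, b ≠ 1 → X ≤ θ b) : X ≤ CB θ B :=
  le_iInf fun b => le_iInf fun hb => le_iInf fun h1 => h b hb h1

theorem CB_anti (h : B ≤ D) : CB θ D ≤ CB θ B := le_CB fun _ hb h1 => CB_le (h hb) h1

theorem le_norm_iInf {ι : Sort*} {S : ι → Subgroup G} (h : ∀ i, A ≤ N[S i]) : A ≤ N[⨅ i, S i] :=
  le_norm_iff.2 fun _ ha _ hx => mem_iInf.2 fun i => conj_mem_of_le_norm (h i) ha (mem_iInf.1 hx i)

theorem Mem.of_le (h : Mem p A θ U) (hW : W ≤ U) (hn : A ≤ N[W]) : Mem p A θ W :=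
  ⟨hn, solv_of_le h.solv hW, fun hd => h.cop (hd.trans (card_dvd_of_le hW)),
    fun a ha h1 => (inf_le_inf_right _ hW).trans (h.cent a ha h1)⟩

theorem Mem.inf_left (h : Mem p A θ U) (hn : A ≤ N[W]) : Mem p A θ (U ⊓ W) :=
  h.of_le inf_le_left (le_norm_inf h.norm hn)

theorem Mem.inf_right (h : Mem p A θ U) (hn : A ≤ N[W]) : Mem p A θ (W ⊓ U) :=
  h.of_le inf_le_right (le_norm_inf hn h.norm)

theorem Mem.inf_norm (h : Mem p A θ U) (hn : A ≤ N[W]) : Mem p A θ (U ⊓ N[W]) :=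
  h.inf_left (le_norm_norm hn)

theorem Mem.inf_cent (h : Mem p A θ U) (hn : A ≤ N[W]) : Mem p A θ (U ⊓ C[W]) :=
  h.inf_left (le_norm_cent hn)

theorem Mem.core (h : Mem p A θ U) (π : Set ℕ) : Mem p A θ (piCoreOf π U) :=
  h.of_le (piCoreOf_le _ _) (le_norm_piCoreOf h.norm)

theorem Mem.le_CB (h : Mem p A θ U) (hB : B ≤ A) : U ⊓ C[B] ≤ CB θ B :=
  Sig.le_CB fun b hb h1 => (inf_le_inf_left _ (cent_le_cent1 hb)).trans (h.cent b (hB hb) h1)

namespace SF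
variable (F : SF p A θ)
include F

theorem comm : IsMulCommutative A := F.hA.comm

theorem A_le_cent1 (ha : a ∈ A) : A ≤ C1[a] := F.hA.le_cent.trans (cent_le_cent1 ha)

theorem A_le_cent (hB : B ≤ A) : A ≤ C[B] := F.hA.le_cent.trans (cent_anti hB)

theorem n_cent1 (ha : a ∈ A) : A ≤ N[C1[a]] := le_norm_cent1 (F.A_le_cent1 ha)

theorem n_cent (hB : B ≤ A) : A ≤ N[C[B]] := le_norm_cent (le_norm_of_cent (F.A_le_cent hB))

theorem mem (ha : a ∈ A) (h1 : a ≠ 1) : Mem p A θ (θ a) :=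
  ⟨F.norm a ha h1, F.solv a ha h1, F.cop a ha h1, fun b hb h2 => F.bal a ha h1 b hb h2⟩

theorem mem_bot : Mem p A θ ⊥ :=
  ⟨by rw [norm_bot]; exact le_top, inferInstance, by simpa using F.hp.ne_one,
    fun _ _ _ => inf_le_left.trans bot_le⟩

theorem n_CB (hB : B ≤ A) : A ≤ N[CB θ B] :=
  le_norm_iInf fun b => le_norm_iInf fun hb => le_norm_iInf fun h1 => F.norm b (hB hb) h1

theorem mem_CB (hB : B ≤ A) (h1 : B ≠ ⊥) : Mem p A θ (CB θ B) := by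
  obtain ⟨b, hb, hb1⟩ := exists_ne_one_of_ne_bot h1
  exact (F.mem (hB hb) hb1).of_le (CB_le hb hb1) (F.n_CB hB)

theorem CB_le_cent (hB : B ≤ A) : CB θ B ≤ C[B] := by
  refine le_cent_symm fun b hb => ?_
  by_cases h1 : b = 1
  · subst h1; exact one_mem _
  · exact mem_cent_iff_le_cent1.2 ((CB_le hb h1).trans (F.cent b (hB hb) h1))

theorem A_ne_bot : A ≠ ⊥ := F.hA.ne_bot F.hp

theorem memC : Mem p A θ (CB θ A) := F.mem_CB le_rfl F.A_ne_bot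

theorem orderOf_eq (ha : a ∈ A) (h1 : a ≠ 1) : orderOf a = p :=
  haveI := Fact.mk F.hp
  orderOf_eq_prime (F.hA.elem.2 a ha) h1

theorem card_zp (ha : a ∈ A) (h1 : a ≠ 1) : Nat.card (zpowers a) = p := by
  rw [Nat.card_zpowers, F.orderOf_eq ha h1]

omit F in
theorem zp_le (ha : a ∈ A) : zpowers a ≤ A := (zpowers_le_of_mem ha)

theorem cop_le (h : Mem p A θ U) (hB : B ≤ A) : (Nat.card U).Coprime (Nat.card B) := by
  refine Nat.Coprime.coprime_dvd_right (card_dvd_of_le hB) ?_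
  rw [F.hA.card]
  exact ((Nat.Prime.coprime_iff_not_dvd F.hp).2 h.cop).symm.pow_right _

theorem copA (h : Mem p A θ U) : (Nat.card U).Coprime (Nat.card A) := F.cop_le h le_rfl

theorem cop_zp (h : Mem p A θ U) (ha : a ∈ A) : (Nat.card U).Coprime (Nat.card (zpowers a)) :=
  F.cop_le h (zp_le ha)

variable [Finite G]

theorem not_cyclic (hB : B ≤ A) (h : p < Nat.card B) : ¬ IsCyclic B := fun hc => by
  have h1 : B ≠ ⊥ := by
    rintro rfl
    have := F.hp.one_lt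
    simp at h; omega
  have := card_eq_of_isCyclic_of_pow F.hp hc (fun x hx => F.hA.elem.2 x (hB hx)) h1
  omega

theorem line_not_cyclic (hB : PnElem p 2 A B) : ¬ IsCyclic B :=
  F.not_cyclic hB.le (by
    rw [hB.card]; have := F.hp.one_lt; nlinarith)

omit [Finite G] in
theorem line_ne_bot (hB : PnElem p 2 A B) : B ≠ ⊥ := hB.ne_bot F.hp

theorem lines_meet (hB : PnElem p 2 A B) (hD : PnElem p 2 A D) : ∃ b, b ∈ B ∧ b ∈ D ∧ b ≠ 1 := by
  have h : B ⊓ D ≠ ⊥ := fun h => by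
    have h1 := card_sup_of_inf_eq_bot (.inl (le_norm_of_cent (hB.le.trans (F.A_le_cent hD.le)))) h
    have h2 := card_le_of_le (sup_le hB.le hD.le)
    rw [h1, hB.card, hD.card, F.hA.card, ← pow_add] at h2
    have := (Nat.pow_le_pow_iff_right F.hp.one_lt).1 h2
    omega
  obtain ⟨b, hb, h1⟩ := exists_ne_one_of_ne_bot h
  exact ⟨b, hb.1, hb.2, h1⟩

theorem gen_pts (h : Mem p A θ U) (hB : B ≤ A) (hnc : ¬ IsCyclic B)
    (hX : ∀ b ∈ B, b ≠ 1 → U ⊓ C1[b] ≤ X) : U ≤ X :=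
  coprime_abelian_gen_cent1 (isMulCommutative_of_le F.comm hB) hnc (hB.trans h.norm)
    (F.cop_le h hB) hX

theorem gen_line_pts (h : Mem p A θ U) (hB : PnElem p 2 A B)
    (hX : ∀ b ∈ B, b ≠ 1 → U ⊓ C1[b] ≤ X) : U ≤ X :=
  F.gen_pts h hB.le (F.line_not_cyclic hB) hX

theorem gen_lines (h : Mem p A θ U) (hX : ∀ B, PnElem p 2 A B → U ⊓ C[B] ≤ X) : U ≤ X :=
  coprime_pnElem_gen_cent F.hp F.hA h.norm (F.copA h) hX

theorem exists_line (h : Mem p A θ U) (h1 : U ≠ ⊥) : ∃ B, PnElem p 2 A B ∧ U ⊓ C[B] ≠ ⊥ := by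
  by_contra hc
  push Not at hc
  exact h1 (le_bot_iff.1 (F.gen_lines h fun B hB => (hc B hB).le))

theorem exists_pt (h : Mem p A θ U) (h1 : U ≠ ⊥) : ∃ a ∈ A, a ≠ 1 ∧ U ⊓ C1[a] ≠ ⊥ := by
  obtain ⟨B, hB, h2⟩ := F.exists_line h h1
  obtain ⟨b, hb, hb1⟩ := exists_ne_one_of_ne_bot (F.line_ne_bot hB)
  exact ⟨b, hB.le hb, hb1, ne_bot_of_le h2 (inf_le_inf_left _ (cent_le_cent1 hb))⟩

theorem comm_gen (h : Mem p A θ U) (hB : B ≤ A) (hnc : ¬ IsCyclic B) (hZ : Z ≤ N[U])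
    (hZB : Z ≤ C[B]) (cZ : (Nat.card U).Coprime (Nat.card Z))
    (hX : ∀ b ∈ B, b ≠ 1 → ⁅U ⊓ C1[b], Z⁆ ≤ X) : ⁅U, Z⁆ ≤ X :=
  comm_le_of_gen h.solv (isMulCommutative_of_le F.comm hB) hnc (hB.trans h.norm) hZ hZB
    (F.cop_le h hB) cZ hX

theorem mem_sup (hU : Mem p A θ U) (hV : Mem p A θ V) (hn : U ≤ N[V]) : Mem p A θ (U ⊔ V) := by
  refine ⟨le_norm_sup hU.norm hV.norm, ?_, fun hd => ?_, fun a ha h1 => ?_⟩
  · obtain ⟨Q, _, _, f, -, hk⟩ := exists_quo' (U ⊔ V) V le_sup_right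
      (sup_le hn (le_norm_self le_rfl))
    refine solvable_of_im (f := f) le_rfl (solv_of_le hV.solv (by rw [hk]; exact inf_le_right)) ?_
    rw [im_sup le_sup_left le_sup_right, im_eq_bot_of_le hk.ge, sup_bot_eq]
    exact solvable_im hU.solv
  · rcases (Nat.Prime.dvd_mul F.hp).1 (hd.trans (card_sup_dvd (.inl hn))) with h | h
    exacts [hU.cop h, hV.cop h]
  · rw [← cent_zpowers, coprime_cent_sup_of_norm (.inl (solv_of_le hU.solv inf_le_left))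
      ((zp_le ha).trans hU.norm) ((zp_le ha).trans hV.norm)
      (coprime_card_of_le (F.cop_zp hU ha) inf_le_left le_rfl) (.inl hn), cent_zpowers]
    exact sup_le (hU.cent a ha h1) (hV.cent a ha h1)

theorem mem_sup' (hU : Mem p A θ U) (hV : Mem p A θ V) (hn : V ≤ N[U]) : Mem p A θ (U ⊔ V) := by
  rw [sup_comm]; exact F.mem_sup hV hU hn

omit [Finite G] in
theorem mem_conj (hU : Mem p A θ U) (hc : c ∈ CB θ A) : Mem p A θ (cj[c] U) := by
  have hcA : c ∈ C[A] := F.CB_le_cent le_rfl hc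
  refine ⟨?_, ?_, by rw [card_conj]; exact hU.cop, fun a ha h1 => ?_⟩
  · rw [← conj_normalizer, ← conj_eq_self_of_mem_cent hcA]
    exact conj_mono _ hU.norm
  · have := hU.solv
    exact Group.isSolvable_of_surjective (f := (conjEquiv c U).toMonoidHom) (conjEquiv c U).surjective
  · have e : cj[c] C1[a] = C1[a] := conj_eq_self_of_mem (cent_le_cent1 ha hcA)
    rw [← e, ← conj_inf]
    exact conj_le_of_mem (CB_le ha h1 hc) (hU.cent a ha h1)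

theorem complete_of_line (hM : Mem p A θ M) (hB : B ≤ A) (hnc : ¬ IsCyclic B)
    (h : ∀ b ∈ B, b ≠ 1 → θ b ≤ M) : Complete p A θ :=
  ⟨M, hM, fun a ha h1 => F.gen_pts (F.mem ha h1) hB hnc fun b hb h2 =>
    (F.bal a ha h1 b (hB hb) h2).trans (h b hb h2)⟩

theorem complete_of_lines (hM : Mem p A θ M) (h : ∀ B, PnElem p 2 A B → CB θ B ≤ M) :
    Complete p A θ :=
  ⟨M, hM, fun _ ha h1 => F.gen_lines (F.mem ha h1) fun B hB =>
    ((F.mem ha h1).le_CB hB.le).trans (h B hB)⟩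

theorem le_of_complete (hM : ∀ a ∈ A, a ≠ 1 → θ a ≤ M) (hU : Mem p A θ U) : U ≤ M :=
  F.gen_pts hU le_rfl (F.not_cyclic le_rfl (by
    rw [F.hA.card]; have := F.hp.one_lt
    calc p = p ^ 1 := (pow_one p).symm
      _ < p ^ 3 := Nat.pow_lt_pow_right this (by omega))) fun a ha h1 =>
    (hU.cent a ha h1).trans (hM a ha h1)

/-- a member whose centralizers are `q'`-groups is a `q'`-group -/
theorem not_dvd_of_cent (hq : q.Prime) (hU : Mem p A θ U)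
    (h : ∀ a ∈ A, a ≠ 1 → ¬ q ∣ Nat.card ↥(U ⊓ C1[a])) : ¬ q ∣ Nat.card U := fun hd => by
  obtain ⟨P, hP, hn⟩ := coprime_exists_syl hq (.inl hU.solv) hU.norm (F.copA hU)
  obtain ⟨a, ha, h1, h2⟩ := F.exists_pt (hU.of_le hP.le hn) ((syl_ne_bot_iff hq hP).2 hd)
  exact h a ha h1 ((prime_dvd_card_of_isPGroup hq ((syl_isPGroup hq hP).to_le inf_le_left) h2).trans
    (card_dvd_of_le (inf_le_inf_right _ hP.le)))

end SF

/-! ### The size of a functor -/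

noncomputable def size [Finite G] (A : Subgroup G) (θ : G → Subgroup G) : ℕ :=
  ∑ a ∈ (Set.toFinite {a | a ∈ A ∧ a ≠ 1}).toFinset, Nat.card (θ a)

theorem size_lt [Finite G] {G' : Type u} [Group G'] [Finite G'] {A' : Subgroup G'}
    {θ' : G' → Subgroup G'} (g : G' → G) (h1 : ∀ y ∈ A', y ≠ 1 → g y ∈ A ∧ g y ≠ 1)
    (h2 : ∀ y ∈ A', ∀ z ∈ A', g y = g z → y = z)
    (h3 : ∀ y ∈ A', y ≠ 1 → Nat.card (θ' y) ≤ Nat.card (θ (g y)))
    (h4 : ∃ y ∈ A', y ≠ 1 ∧ Nat.card (θ' y) < Nat.card (θ (g y))) : size A' θ' < size A θ := by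
  classical
  unfold size
  calc _ < ∑ y ∈ (Set.toFinite {a | a ∈ A' ∧ a ≠ 1}).toFinset, Nat.card (θ (g y)) := by
        refine Finset.sum_lt_sum (fun y hy => ?_) ?_
        · simp only [Set.Finite.mem_toFinset, Set.mem_ofPred_eq] at hy
          exact h3 y hy.1 hy.2
        · obtain ⟨y, hy, hy1, h⟩ := h4
          exact ⟨y, by simp [hy, hy1], h⟩
    _ = ∑ a ∈ ((Set.toFinite {a | a ∈ A' ∧ a ≠ 1}).toFinset).image g, Nat.card (θ a) := by
        rw [Finset.sum_image]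
        intro y hy z hz h
        simp only [Set.Finite.coe_toFinset, Set.mem_ofPred_eq] at hy hz
        exact h2 y hy.1 z hz.1 h
    _ ≤ _ := by
        refine Finset.sum_le_sum_of_subset fun a ha => ?_
        simp only [Finset.mem_image, Set.Finite.mem_toFinset, Set.mem_ofPred_eq] at ha ⊢
        obtain ⟨y, ⟨hy, hy1⟩, rfl⟩ := ha
        exact h1 y hy hy1

/-- a locally complete functor which is not complete -/
structure CE (p : ℕ) (A : Subgroup G) (θ : G → Subgroup G) : Prop extends SF p A θ where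
  nc : ¬ Complete p A θ
  loc : ∀ U, Mem p A θ U → U ≠ ⊥ → ∃ M, Mem p A θ M ∧ M ≤ N[U] ∧
    ∀ V, Mem p A θ V → V ≤ N[U] → V ≤ M
  sub : ∀ q, q.Prime → (∃ a ∈ A, a ≠ 1 ∧ q ∣ Nat.card (θ a)) → ∃ D, Mem p A θ D ∧
    IsPiSubgroup {q}ᶜ D ∧ ∀ V, Mem p A θ V → IsPiSubgroup {q}ᶜ V → CB θ A ≤ N[V] → V ≤ D

variable [Finite G]

theorem SF.loc_of_ih (F : SF p A θ)
    (ih : ∀ {G' : Type u} [Group G'] [Finite G'] (A' : Subgroup G') (θ' : G' → Subgroup G'),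
      SF p A' θ' → size A' θ' < size A θ → Complete p A' θ')
    (hU : Mem p A θ U) (h1 : U ≠ ⊥) :
    ∃ M, Mem p A θ M ∧ M ≤ N[U] ∧ ∀ V, Mem p A θ V → V ≤ N[U] → V ≤ M := by
  classical
  obtain ⟨Q, _, _, f, -, hk⟩ := exists_quo' N[U] U (le_norm_self le_rfl) le_rfl
  have dA : A ≤ N[U] := hU.norm
  have hAk : A ⊓ kr f = ⊥ := by rw [hk]; exact inf_eq_bot_of_coprime_card (F.copA hU).symm
  have hσ : ∀ y : Q, ∃ a : G, y ∈ im f A → ∃ ha : a ∈ A, f ⟨a, dA ha⟩ = y := fun y => by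
    by_cases hy : y ∈ im f A
    · obtain ⟨a, _, ha, rfl⟩ := mem_im.1 hy
      exact ⟨a, fun _ => ⟨ha, rfl⟩⟩
    · exact ⟨1, fun h => absurd h hy⟩
  choose σ hσ using hσ
  have inj : ∀ a (ha : a ∈ A) b (hb : b ∈ A), f ⟨a, dA ha⟩ = f ⟨b, dA hb⟩ → a = b := by
    intro a ha b hb h
    have hab : a * b⁻¹ ∈ A := mul_mem ha (inv_mem hb)
    have : a * b⁻¹ ∈ A ⊓ kr f := ⟨hab, (mem_kr' (dA hab)).2 (by
      have : (⟨a * b⁻¹, dA hab⟩ : N[U]) = ⟨a, dA ha⟩ * ⟨b, dA hb⟩⁻¹ := rfl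
      rw [this, map_mul, map_inv, h, mul_inv_cancel])⟩
    rw [hAk, Subgroup.mem_bot] at this
    exact mul_inv_eq_one.1 this
  have σf : ∀ a (ha : a ∈ A), σ (f ⟨a, dA ha⟩) = a := fun a ha => by
    obtain ⟨h1, h2⟩ := hσ _ (mem_im_of_mem (dA ha) ha)
    exact inj _ h1 _ ha h2
  have ne1 : ∀ a (ha : a ∈ A), a ≠ 1 → f ⟨a, dA ha⟩ ≠ 1 := fun a ha h1 h =>
    h1 (inj a ha 1 (one_mem _) (h.trans (map_one f).symm))
  have cases : ∀ y ∈ im f A, y ≠ 1 → ∃ a, ∃ ha : a ∈ A, a ≠ 1 ∧ f ⟨a, dA ha⟩ = y := by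
    intro y hy h1
    obtain ⟨a, _, ha, rfl⟩ := mem_im.1 hy
    exact ⟨a, ha, by rintro rfl; exact h1 (map_one f), rfl⟩
  have hcen : ∀ {H : Subgroup G}, Mem p A θ H → H ≤ N[U] → ∀ b (hb : b ∈ A),
      im f H ⊓ C1[f ⟨b, dA hb⟩] = im f (H ⊓ C1[b]) := fun hH hHU b hb =>
    (im_inf_cent1_of_coprime hHU (dA hb) (hH.norm hb) (by
      have := F.cop_zp hH hb
      rw [Nat.card_zpowers] at this
      exact Nat.Coprime.coprime_dvd_left (card_dvd_of_le inf_le_left) this)).symm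
  let θ' : Q → Subgroup Q := fun y => im f (θ (σ y) ⊓ N[U])
  have hθ' : ∀ a (ha : a ∈ A), θ' (f ⟨a, dA ha⟩) = im f (θ a ⊓ N[U]) := fun a ha => by
    simp only [θ', σf a ha]
  have hm : ∀ a ∈ A, a ≠ 1 → Mem p A θ (θ a ⊓ N[U]) := fun a ha h1 => (F.mem ha h1).inf_norm dA
  have F' : SF p (im f A) θ' := by
    refine ⟨F.hp, F.hp2, ⟨le_top, ⟨comm_im F.comm, ?_⟩, ?_⟩, ?_, ?_, ?_, ?_, ?_⟩
    · intro y hy
      obtain ⟨a, haD, ha, rfl⟩ := mem_im.1 hy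
      rw [← map_pow]
      have : (⟨a, haD⟩ : N[U]) ^ p = 1 := Subtype.ext (F.hA.elem.2 a ha)
      rw [this, map_one]
    · rw [card_im_of_inf_eq_bot dA hAk, F.hA.card]
    · intro y hy h0
      obtain ⟨a, ha, h1, rfl⟩ := cases y hy h0
      rw [hθ' a ha, ← inf_eq_left, hcen (hm a ha h1) inf_le_right a ha,
        inf_eq_left.2 (inf_le_left.trans (F.cent a ha h1))]
    · intro y hy h0
      obtain ⟨a, ha, h1, rfl⟩ := cases y hy h0
      rw [hθ' a ha]; exact im_norm (hm a ha h1).norm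
    · intro y hy h0
      obtain ⟨a, ha, h1, rfl⟩ := cases y hy h0
      rw [hθ' a ha]; exact solvable_im (hm a ha h1).solv
    · intro y hy h0
      obtain ⟨a, ha, h1, rfl⟩ := cases y hy h0
      rw [hθ' a ha]; exact fun hd => (hm a ha h1).cop (hd.trans card_im_dvd)
    · intro y hy h0 z hz h0'
      obtain ⟨a, ha, h1, rfl⟩ := cases y hy h0
      obtain ⟨b, hb, h2, rfl⟩ := cases z hz h0'
      rw [hθ' a ha, hθ' b hb, hcen (hm a ha h1) inf_le_right b hb]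
      exact im_mono (le_inf ((hm a ha h1).cent b hb h2) (inf_le_left.trans inf_le_right))
  have hlt : size (im f A) θ' < size A θ := by
    refine size_lt σ (fun y hy h1 => ?_) (fun y hy z hz h => ?_) (fun y hy h1 => ?_) ?_
    · obtain ⟨a, ha, h2, rfl⟩ := cases y hy h1
      rw [σf a ha]; exact ⟨ha, h2⟩
    · obtain ⟨h1, h2⟩ := hσ y hy
      obtain ⟨h3, h4⟩ := hσ z hz
      rw [← h2, ← h4]; congr 2
    · exact (Nat.le_of_dvd (card_pos' _) card_im_dvd).trans (card_le_of_le inf_le_left)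
    · obtain ⟨a, ha, h2, h3⟩ := F.exists_pt hU h1
      refine ⟨_, mem_im_of_mem (dA ha) ha, ne1 a ha h2, ?_⟩
      rw [hθ' a ha, σf a ha]
      refine (card_im_lt inf_le_right (ne_bot_of_le h3 ?_)).trans_le (card_le_of_le inf_le_left)
      rw [hk]
      exact le_inf (le_inf (hU.cent a ha h2) (inf_le_left.trans (le_norm_self le_rfl))) inf_le_left
  obtain ⟨M', hM', hall⟩ := ih _ _ F' hlt
  have hMs : Group.IsSolvable (pre f M') := solvable_pre (by rw [hk]; exact hU.solv) hM'.solv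
  have hMp : ¬ p ∣ Nat.card (pre f M') := by
    rw [← isPiSubgroup_single_compl_iff F.hp]
    exact isPiSubgroup_pre (by rw [hk, isPiSubgroup_single_compl_iff F.hp]; exact hU.cop)
      ((isPiSubgroup_single_compl_iff F.hp).2 hM'.cop)
  refine ⟨pre f M', ⟨le_norm_pre dA hM'.norm, hMs, hMp, fun a ha h2 => ?_⟩, pre_le, fun V hV hVU => ?_⟩
  · have h3 : pre f M' ⊓ C1[a] ≤ (θ a ⊓ N[U]) ⊔ U := by
      refine le_trans ?_ (sup_le_sup_left hk.le _)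
      rw [← im_le_im_iff (inf_le_left.trans pre_le) inf_le_right, ← hθ' a ha]
      refine le_trans ?_ (hM'.cent _ (mem_im_of_mem (dA ha) ha) (ne1 a ha h2))
      refine le_inf ((im_mono inf_le_left).trans im_pre_le) ?_
      rw [← cent_zpowers, ← cent_zpowers, ← im_zpowers (dA ha)]
      exact im_cent inf_le_right
    exact (le_inf h3 inf_le_right).trans ((F.mem_sup (hm a ha h2) hU inf_le_right).cent a ha h2)
  · refine F.gen_lines hV fun B hB => ?_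
    obtain ⟨b, hb, h2⟩ := exists_ne_one_of_ne_bot (F.line_ne_bot hB)
    have h3 : V ⊓ C[B] ≤ θ b ⊓ N[U] :=
      le_inf ((hV.le_CB hB.le).trans (CB_le hb h2)) (inf_le_left.trans hVU)
    refine h3.trans ?_
    rw [← im_le_iff inf_le_right, ← hθ' b (hB.le hb)]
    exact hall _ (mem_im_of_mem (dA (hB.le hb)) (hB.le hb)) (ne1 b (hB.le hb) h2)

/-- the largest `A C`-invariant `π`-subgroup of a member -/
theorem SF.exists_top (F : SF p A θ) (π : Set ℕ) (hH : Mem p A θ H) (hC : CB θ A ≤ H) :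
    ∃ T, T ≤ H ∧ A ≤ N[T] ∧ IsPiSubgroup π T ∧ CB θ A ≤ N[T] ∧
      ∀ V, V ≤ H → A ≤ N[V] → IsPiSubgroup π V → CB θ A ≤ N[V] → V ≤ T := by
  obtain ⟨K, hK, hn⟩ := coprime_exists_hall π hH.solv hH.norm (F.copA hH)
  have key : ∀ V, V ≤ H → A ≤ N[V] → IsPiSubgroup π V → CB θ A ≤ N[V] → V ≤ K := by
    intro V h1 h2 h3 h4
    obtain ⟨c, hc, h⟩ := coprime_hall_le_conj hH.solv hH.norm (F.copA hH) hK hn h1 h3 h2
    rwa [← conj_eq_self (h4 (hH.le_CB le_rfl hc)), conj_le_conj_iff] at h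
  have hS := sSup_mem_of_sup_closed
    (S := {V | V ≤ H ∧ A ≤ N[V] ∧ IsPiSubgroup π V ∧ CB θ A ≤ N[V]}) (X := ⊥)
    ⟨bot_le, by rw [norm_bot]; exact le_top, isPiSubgroup_bot, by rw [norm_bot]; exact le_top⟩
    (fun U hU V hV => ⟨sup_le hU.1 hV.1, le_norm_sup hU.2.1 hV.2.1,
      hK.isPi.of_le (sup_le (key U hU.1 hU.2.1 hU.2.2.1 hU.2.2.2) (key V hV.1 hV.2.1 hV.2.2.1 hV.2.2.2)),
      le_norm_sup hU.2.2.2 hV.2.2.2⟩)
  exact ⟨_, hS.1, hS.2.1, hS.2.2.1, hS.2.2.2, fun V h1 h2 h3 h4 => le_sSup ⟨h1, h2, h3, h4⟩⟩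

theorem SF.sub_of_ih (F : SF p A θ)
    (ih : ∀ θ' : G → Subgroup G, SF p A θ' → size A θ' < size A θ → Complete p A θ')
    (hq : q.Prime) (h : ∃ a ∈ A, a ≠ 1 ∧ q ∣ Nat.card (θ a)) : ∃ D, Mem p A θ D ∧
    IsPiSubgroup {q}ᶜ D ∧ ∀ V, Mem p A θ V → IsPiSubgroup {q}ᶜ V → CB θ A ≤ N[V] → V ≤ D := by
  have hT : ∀ a : G, ∃ T : Subgroup G, a ∈ A → a ≠ 1 → T ≤ θ a ∧ A ≤ N[T] ∧ IsPiSubgroup {q}ᶜ T ∧
      CB θ A ≤ N[T] ∧ ∀ V, V ≤ θ a → A ≤ N[V] → IsPiSubgroup {q}ᶜ V → CB θ A ≤ N[V] → V ≤ T := by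
    intro a
    by_cases ha : a ∈ A ∧ a ≠ 1
    · obtain ⟨T, hT⟩ := F.exists_top {q}ᶜ (F.mem ha.1 ha.2) (CB_le ha.1 ha.2)
      exact ⟨T, fun _ _ => hT⟩
    · exact ⟨⊥, fun h1 h2 => absurd ⟨h1, h2⟩ ha⟩
  choose θ' hT using hT
  have hm : ∀ a ∈ A, a ≠ 1 → Mem p A θ (θ' a) := fun a ha h1 =>
    (F.mem ha h1).of_le (hT a ha h1).1 (hT a ha h1).2.1
  have nC : ∀ b ∈ A, CB θ A ≤ N[C1[b]] := fun b hb =>
    le_norm_self ((F.CB_le_cent le_rfl).trans (cent_le_cent1 hb))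
  have F' : SF p A θ' := by
    refine ⟨F.hp, F.hp2, F.hA, fun a ha h1 => (hT a ha h1).1.trans (F.cent a ha h1),
      fun a ha h1 => (hm a ha h1).norm, fun a ha h1 => (hm a ha h1).solv,
      fun a ha h1 => (hm a ha h1).cop, fun a ha h1 b hb h2 => ?_⟩
    exact (hT b hb h2).2.2.2.2 _ ((hm a ha h1).cent b hb h2)
      (le_norm_inf (hm a ha h1).norm (F.n_cent1 hb)) (hT a ha h1).2.2.1.inf_left
      (le_norm_inf (hT a ha h1).2.2.2.1 (nC b hb))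
  have hlt : size A θ' < size A θ := by
    refine size_lt id (fun y hy h1 => ⟨hy, h1⟩) (fun _ _ _ _ h => h)
      (fun y hy h1 => card_le_of_le (hT y hy h1).1) ?_
    obtain ⟨a, ha, h1, h2⟩ := h
    refine ⟨a, ha, h1, card_lt_of_lt (lt_of_le_of_ne (hT a ha h1).1 fun e => ?_)⟩
    exact (isPiSubgroup_single_compl_iff hq).1 (hT a ha h1).2.2.1 (by rw [e]; exact h2)
  obtain ⟨D, hD, hall⟩ := ih θ' F' hlt
  have hD' : Mem p A θ D :=
    ⟨hD.norm, hD.solv, hD.cop, fun a ha h1 => (hD.cent a ha h1).trans (hT a ha h1).1⟩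
  refine ⟨D, hD', (isPiSubgroup_single_compl_iff hq).2 (F.not_dvd_of_cent hq hD' fun a ha h1 => ?_),
    fun V hV hπ hn => ?_⟩
  · exact (isPiSubgroup_single_compl_iff hq).1 ((hT a ha h1).2.2.1.of_le (hD.cent a ha h1))
  · refine F'.le_of_complete hall ⟨hV.norm, hV.solv, hV.cop, fun a ha h1 => ?_⟩
    exact (hT a ha h1).2.2.2.2 _ (hV.cent a ha h1) (le_norm_inf hV.norm (F.n_cent1 ha))
      hπ.inf_left (le_norm_inf hn (nC a ha))

theorem complete_of_no_CE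
    (h : ∀ {G : Type u} [Group G] [Finite G] (A : Subgroup G) (θ : G → Subgroup G), ¬ CE p A θ)
    (n : ℕ) : ∀ {G : Type u} [Group G] [Finite G] (A : Subgroup G) (θ : G → Subgroup G),
      size A θ = n → SF p A θ → Complete p A θ := by
  induction n using Nat.strong_induction_on with
  | _ n ih =>
  intro G _ _ A θ hn F
  by_contra hc
  refine h A θ ⟨F, hc, fun U hU h1 => F.loc_of_ih (fun A' θ' F' hlt => ih _ (hn ▸ hlt) A' θ' rfl F') hU h1,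
    fun q hq h1 => F.sub_of_ih (fun θ' F' hlt => ih _ (hn ▸ hlt) A θ' rfl F') hq h1⟩

end Cfsg.Agent.Sig
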