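import Cfsg.Agent.Sig.A4

/-! The solvable signalizer functor theorem (rank three, odd `p`). -/

set_option autoImplicit false
open Cfsg Subgroup Cfsg.Agent.GT Cfsg.Agent.BG
open scoped commutatorElement

namespace Cfsg.Agent.Sig
universe u
variable {G : Type u} [Group G] {π : Set ℕ} {p q r s : ℕ}
  {A B D H K L M N P S T U V W X Y Z : Subgroup G} {θ : G → Subgroup G} {a b c : G}

def Quiet (p : ℕ) (A : Subgroup G) (θ : G → Subgroup G) (a : G) : Prop :=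
  ∀ q, q.Prime → ∀ U, Mem p A θ U → IsPGroup q U → θ a ≤ N[U] → (q ≠ 2 ∨ IsMulCommutative U) →
    U ≤ C1[a]

variable [Finite G]

namespace CE
variable (E : CE p A θ)
include E

theorem le_cent1_of_cores (ha : a ∈ A) (hH : Mem p A θ H)
    (h : ∀ t, t.Prime → piCoreOf {t} H ≤ C1[a]) : H ≤ C1[a] := by
  rw [← cent_zpowers]
  refine le_cent_symm (coprime_le_cent_of_le_cent_fittingOf hH.solv ((SF.zp_le ha).trans hH.norm)
    (E.cop_zp hH ha) (fittingOf_le_cent_of_forall fun t ht => le_cent_symm ?_))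
  rw [cent_zpowers]; exact h t ht

theorem quiet_two (ha : a ∈ A) (a1 : a ≠ 1) (h : Quiet p A θ a) (hK : MaxM p A θ K) (hl : θ a ≤ K) :
    piCoreOf {2} K ≠ ⊥ := fun h0 => by
  have h1 : K ≤ C1[a] := E.le_cent1_of_cores ha hK.mem fun t ht => by
    by_cases t2 : t = 2
    · rw [t2, h0]; exact bot_le
    · exact h t ht _ (hK.mem.core _) (piCoreOf_isPGroup ht _)
        (hl.trans (self_le_norm_piCoreOf _ _)) (.inl t2)
  obtain ⟨r, hr, h2⟩ := exists_piCoreOf_single_ne_bot hK.mem.solv (E.max_ne_bot hK)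
  obtain ⟨S, hS⟩ := E.exists_S r
  have h3 := E.core_le_S hr hS hK.mem ((C_le ha a1).trans hl)
  have pr : p ≠ r := by
    rintro rfl
    exact hK.mem.cop ((prime_dvd_card_of_isPGroup hr (piCoreOf_isPGroup hr _) h2).trans
      (card_dvd_of_le (piCoreOf_le _ _)))
  refine E.not_le_cent1 hr hS (ne_bot_of_le h2 h3) ha a1 ?_
  rw [← cent_zpowers]
  refine le_cent_symm (thompson_AxB_pgroup hr hS.pg (piCoreOf_isPGroup hr K)
    (pi_compl_of_ne E.hp pr (E.hA.isPGroup.to_le (SF.zp_le ha))) ((SF.zp_le ha).trans hS.mem.norm)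
    (le_norm_self h3) (le_cent_symm ?_) ?_)
  · rw [cent_zpowers]; exact (piCoreOf_le _ _).trans h1
  · rw [cent_zpowers]
    exact (E.le_max_core hK h2 (hS.mem.inf_cent (hK.mem.core _).norm)
      (le_norm_of_cent inf_le_right)).trans h1

theorem quiet_center (ha : a ∈ A) (a1 : a ≠ 1) (h : Quiet p A θ a) (hT : MaxQ p A θ 2 T) :
    T ≠ ⊥ ∧ T ⊓ C[T] ≤ C1[a] := by
  obtain ⟨K, hK, hl⟩ := exists_maxM (E.mem ha a1)
  have h1 := E.quiet_two ha a1 h hK hl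
  have h2 := E.core_le_S Nat.prime_two hT hK.mem ((C_le ha a1).trans hl)
  refine ⟨ne_bot_of_le h1 h2, ?_⟩
  have m0 : Mem p A θ (K ⊓ C[piCoreOf {2} K]) := hK.mem.inf_cent (hK.mem.core _).norm
  have n0 : K ≤ N[K ⊓ C[piCoreOf {2} K]] :=
    le_norm_inf (le_norm_self le_rfl) (le_norm_cent (self_le_norm_piCoreOf _ _))
  have h3 : T ⊓ C[T] ≤ C[piCoreOf {2} K] := inf_le_right.trans (cent_anti h2)
  refine le_trans (le_inf (E.le_max_core hK h1 (hT.mem.inf_cent hT.mem.norm) (le_norm_of_cent h3)) h3)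
    (E.le_cent1_of_cores ha m0 fun t ht => ?_)
  refine h t ht _ (m0.core _) (piCoreOf_isPGroup ht _) (le_norm_piCoreOf (hl.trans n0)) ?_
  by_cases t2 : t = 2
  · right
    rw [t2, isMulCommutative_iff_le_cent]
    exact ((piCoreOf_le _ _).trans inf_le_right).trans
      (cent_anti (piCoreOf_le_of_normal inf_le_left n0))
  · exact .inl t2

theorem exists_loud (ha : a ∈ A) (a1 : a ≠ 1) (h : ¬ Quiet p A θ a) :
    ∃ q M, SM p A θ q M ∧ ∀ f ∈ A, f ≠ 1 → ¬ Quiet p A θ f → θ f ≤ M := by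
  have key : ∀ f ∈ A, f ≠ 1 → ¬ Quiet p A θ f → ∃ q M, SM p A θ q M ∧ θ f ≤ M := by
    intro f hf f1 h
    unfold Quiet at h
    push Not at h
    obtain ⟨q, hq, U, h1, h2, h3, h4, h5⟩ := h
    obtain ⟨M, hM⟩ := E.loud_le hq hf f1 h1 h2 h3 h4 h5
    exact ⟨q, M, hM⟩
  obtain ⟨q, M, hM, -⟩ := key a ha a1 h
  refine ⟨q, M, hM, fun f hf f1 h => ?_⟩
  obtain ⟨r, M', hM', h'⟩ := key f hf f1 h
  rw [E.SM_unique hM hM']; exact h'

theorem center_fixed (hT : MaxQ p A θ 2 T) : T ≠ ⊥ ∧ T ⊓ C[T] ≤ C[A] := by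
  have key : ∀ L, L < A → (∀ f ∈ A, f ∉ L → f ≠ 1 → ¬ Quiet p A θ f) → False := by
    intro L hL h
    have ne : ∀ f, f ∉ L → f ≠ 1 := by rintro f hf rfl; exact hf (one_mem _)
    obtain ⟨e, he, heL⟩ := SetLike.exists_of_lt hL
    obtain ⟨q, M, hM, hall⟩ := E.exists_loud he (ne e heL) (h e he heL (ne e heL))
    exact E.not_outside hM.max hL fun f hf hfL => hall f hf (ne f hfL) (h f hf hfL (ne f hfL))
  refine ⟨fun h0 => key ⊥ (bot_lt_iff_ne_bot.2 E.A_ne_bot) fun f hf _ f1 h =>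
    (E.quiet_center hf f1 h hT).1 h0, le_cent_symm ?_⟩
  by_contra hn
  exact key (A ⊓ C[T ⊓ C[T]]) (lt_of_le_of_ne inf_le_left fun e => hn (e.ge.trans inf_le_right))
    fun f hf hfL f1 h => hfL ⟨hf, mem_cent_iff_le_cent1.2 (E.quiet_center hf f1 h hT).2⟩

theorem false : False := by
  have two := Nat.prime_two
  obtain ⟨T, hT⟩ := E.exists_S 2
  obtain ⟨T1, hZA⟩ := E.center_fixed hT
  obtain ⟨Z, hZ⟩ : ∃ Z, Z = T ⊓ C[T] := ⟨_, rfl⟩
  have mZ : Mem p A θ Z := hZ ▸ hT.mem.inf_cent hT.mem.norm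
  have ZT : Z ≤ T := hZ ▸ inf_le_left
  have ZcT : Z ≤ C[T] := hZ ▸ inf_le_right
  have Z1 : Z ≠ ⊥ := hZ ▸ center_ne_bot_of_nilpotent (nilpotent_of_isPGroup two hT.pg) T1
  rw [← hZ] at hZA
  have ZC : Z ≤ CB θ A := (le_inf le_rfl hZA).trans (mZ.le_CB le_rfl)
  have pZ : IsPiSubgroup {2} Z := isPi_of_isPGroup two (hT.pg.to_le ZT)
  obtain ⟨D, hD, hD2, hall⟩ := E.sub 2 two (E.dvd_of_ne_bot two hT.mem hT.pg T1)
  have cD : ∀ f ∈ A, f ≠ 1 → piCoreOf {2}ᶜ (θ f) ≤ D := fun f hf f1 =>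
    hall _ ((E.mem hf f1).core _) (piCoreOf_isPi _ _) ((C_le hf f1).trans (self_le_norm_piCoreOf _ _))
  obtain ⟨B₀, hB₀⟩ := E.exists_a_line
  -- the largest `T`-invariant odd member
  obtain ⟨Y, mY, oY, nY, maxY⟩ : ∃ Y, Mem p A θ Y ∧ IsPiSubgroup {2}ᶜ Y ∧ T ≤ N[Y] ∧
      ∀ V, Mem p A θ V → IsPiSubgroup {2}ᶜ V → T ≤ N[V] → V ≤ Y := by
    have k : ∀ V, Mem p A θ V → IsPiSubgroup {2}ᶜ V → T ≤ N[V] → V ≤ D := fun V h1 h2 h3 =>
      E.gen_line_pts h1 hB₀ fun b hb b1 => by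
        have hbA := hB₀.le hb
        have m := E.mem hbA b1
        refine le_trans (le_core_of_hall_norm m.solv (E.syl two hT m (C_le hbA b1))
          (h1.cent b hbA b1) h2.inf_left (le_norm_inf (inf_le_left.trans h3)
          (le_norm_self (inf_le_right.trans (E.cent b hbA b1))))) (cD b hbA b1)
    have hS := sSup_mem_of_sup_closed (S := {V | Mem p A θ V ∧ IsPiSubgroup {2}ᶜ V ∧ T ≤ N[V]})
      (X := ⊥) ⟨E.mem_bot, isPiSubgroup_bot, by rw [norm_bot]; exact le_top⟩ fun U hU V hV => by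
        have h := sup_le (k U hU.1 hU.2.1 hU.2.2) (k V hV.1 hV.2.1 hV.2.2)
        exact ⟨hD.of_le h (le_norm_sup hU.1.norm hV.1.norm), hD2.of_le h, le_norm_sup hU.2.2 hV.2.2⟩
    exact ⟨_, hS.1, hS.2.1, hS.2.2, fun V h1 h2 h3 => le_sSup ⟨h1, h2, h3⟩⟩
  -- the largest commutator of `Z` with an odd member
  have kB : ∀ B, PnElem p 2 A B → ∀ V, Mem p A θ V → IsPiSubgroup {2}ᶜ V → Z ≤ N[V] →
      ⁅V, Z⁆ ≤ ⨆ (f : G) (_ : f ∈ B) (_ : f ≠ 1), ⁅piCoreOf {2}ᶜ (θ f), Z⁆ := by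
    intro B hB V h1 h2 h3
    refine E.comm_gen h1 hB.le (E.line_not_cyclic hB) h3 (hZA.trans (cent_anti hB.le))
      (h2.coprime' pZ) fun b hb b1 => ?_
    have hbA := hB.le hb
    have m := E.mem hbA b1
    have n1 : Z ≤ N[V ⊓ C1[b]] := le_norm_inf h3 (le_norm_self (hZA.trans (cent_le_cent1 hbA)))
    rw [← coprime_commutator_commutator (.inl (solv_of_le h1.solv inf_le_left)) n1
      (h2.inf_left.coprime' pZ)]
    exact (commutator_mono (comm_le_core_of_center m.solv (E.syl two hT m (C_le hbA b1))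
      (ZC.trans (C_le hbA b1)) (ZcT.trans (cent_anti inf_le_left)) (h1.cent b hbA b1) h2.inf_left n1)
      le_rfl).trans (le_iSup3 (S := fun f => ⁅piCoreOf {2}ᶜ (θ f), Z⁆) hb b1)
  obtain ⟨X, mX, oX, nX, maxX⟩ : ∃ X, Mem p A θ X ∧ IsPiSubgroup {2}ᶜ X ∧ Nth p A θ Z ≤ N[X] ∧
      ∀ V, Mem p A θ V → IsPiSubgroup {2}ᶜ V → Z ≤ N[V] → ⁅V, Z⁆ ≤ X := by
    obtain ⟨X, hX⟩ : ∃ X, X = ⨆ (f : G) (_ : f ∈ A) (_ : f ≠ 1), ⁅piCoreOf {2}ᶜ (θ f), Z⁆ := ⟨_, rfl⟩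
    have nZ : ∀ f ∈ A, f ≠ 1 → Z ≤ N[piCoreOf {2}ᶜ (θ f)] := fun f hf f1 =>
      (ZC.trans (C_le hf f1)).trans (self_le_norm_piCoreOf _ _)
    have xD : X ≤ D := hX ▸ iSup_le fun f => iSup_le fun hf => iSup_le fun f1 =>
      (commutator_le_of_le_norm_left (nZ f hf f1)).trans (cD f hf f1)
    have mX : Mem p A θ X := hD.of_le xD (hX ▸ le_norm_iSup fun f => le_norm_iSup fun hf =>
      le_norm_iSup fun f1 => le_norm_commutator ((E.mem hf f1).core _).norm mZ.norm)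
    have zX : Z ≤ N[X] := hX ▸ le_norm_iSup fun f => le_norm_iSup fun hf =>
      le_norm_iSup fun f1 => Subgroup.normalizer_commutator_ge_right _ _
    have up : ∀ B, B ≤ A → ⨆ (f : G) (_ : f ∈ B) (_ : f ≠ 1), ⁅piCoreOf {2}ᶜ (θ f), Z⁆ ≤ X :=
      fun B hB => hX ▸ iSup_le fun f => iSup_le fun hf => iSup_le fun f1 =>
        le_iSup3 (S := fun f => ⁅piCoreOf {2}ᶜ (θ f), Z⁆) (hB hf) f1
    refine ⟨X, mX, hD2.of_le xD, E.gen_lines (E.mem_Nth mZ Z1) fun B hB => ?_,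
      fun V h1 h2 h3 => (kB B₀ hB₀ V h1 h2 h3).trans (up _ hB₀.le)⟩
    have e : X = ⨆ (f : G) (_ : f ∈ B) (_ : f ≠ 1), ⁅piCoreOf {2}ᶜ (θ f), Z⁆ := by
      refine le_antisymm ?_ (up _ hB.le)
      rw [hX]
      exact iSup_le fun f => iSup_le fun hf => iSup_le fun f1 =>
        kB B hB _ ((E.mem hf f1).core _) (piCoreOf_isPi _ _) (nZ f hf f1)
    rw [e]
    exact le_norm_iSup fun f => le_norm_iSup fun hf => le_norm_iSup fun f1 =>
      le_norm_commutator ((((E.mem_Nth mZ Z1).le_CB hB.le).trans (CB_le hf f1)).trans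
        (self_le_norm_piCoreOf _ _)) (inf_le_left.trans Nth_le_norm)
  have mN := E.mem_Nth mZ Z1
  have TN : T ≤ Nth p A θ Z := le_Nth hT.mem (le_norm_of_cent (le_cent_symm ZcT))
  have XY : X ≤ Y := maxY X mX oX (TN.trans nX)
  have split : ∀ V, Mem p A θ V → IsPiSubgroup {2}ᶜ V → Z ≤ N[V] → ∀ R : Subgroup G, X ≤ R →
      V ⊓ C[Z] ≤ R → V ≤ R := fun V h1 h2 h3 R r1 r2 => by
    rw [← coprime_commutator_sup_cent (.inl h1.solv) h3 (h2.coprime' pZ)]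
    exact sup_le ((maxX V h1 h2 h3).trans r1) r2
  have inY : ∀ K, Mem p A θ K → CB θ A ≤ K → Y ⊓ K ≤ piCoreOf {2}ᶜ K := fun K hK hC =>
    le_core_of_hall_norm hK.solv (E.syl two hT hK hC) inf_le_right oY.inf_left
      (le_norm_inf (inf_le_left.trans nY) (le_norm_self inf_le_right))
  have Y1 : ∀ K, MaxM p A θ K → CB θ A ≤ K → piCoreOf {2} K ≠ ⊥ → piCoreOf {2}ᶜ K ≤ Y := by
    intro K hK hC h1
    have mE := hK.mem.core {2}ᶜ
    refine split _ mE (piCoreOf_isPi _ _) ((ZC.trans hC).trans (self_le_norm_piCoreOf _ _)) _ XY ?_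
    have QN : piCoreOf {2} K ≤ Nth p A θ Z := (E.core_le_S two hT hK.mem hC).trans TN
    refine le_trans ?_ (maxY _ (mN.core {2}ᶜ) (piCoreOf_isPi _ _)
      (TN.trans (self_le_norm_piCoreOf _ _)))
    refine le_trans ?_ (piCoreOf_compl_cent_le two mN.solv QN (piCoreOf_isPGroup two _))
    refine le_piCoreOf (le_inf (le_Nth (mE.inf_cent mZ.norm) (le_norm_of_cent inf_le_right))
      (cent_of_core two le_rfl inf_le_left)) (le_norm_inf (le_trans ?_ (self_le_norm_piCoreOf _ _))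
      (le_norm_cent (inf_le_left.trans Nth_le_norm))) (piCoreOf_isPi _ _).inf_left
    exact E.le_max_core hK h1 (mN.inf_cent (hK.mem.core _).norm) (le_norm_of_cent inf_le_right)
  by_cases Y0 : Y = ⊥
  · have k : ∀ K, MaxM p A θ K → CB θ A ≤ K → Z ≤ piCoreOf {2} K := fun K hK hC => by
      have ZK := ZC.trans hC
      refine le_piCoreOf_of_le_fittingOf (le_fittingOf_of_le_cent hK.mem.solv ZK
        (fittingOf_le_cent_of_forall fun t ht => ?_)) pZ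
      by_cases t2 : t = 2
      · rw [t2]; exact ZcT.trans (cent_anti (E.core_le_S two hT hK.mem hC))
      · rw [le_cent_iff_commutator_eq_bot', eq_bot_iff, ← Y0]
        exact (maxX _ (hK.mem.core _) (pi_compl_of_ne ht t2 (piCoreOf_isPGroup ht _))
          (ZK.trans (self_le_norm_piCoreOf _ _))).trans XY
    obtain ⟨K, hK, hC⟩ := exists_maxM (E.mem_CB hB₀.le (E.line_ne_bot hB₀))
    refine CQ.false ⟨E, two, hB₀, fun K hK hC => ?_⟩ (ne_bot_of_le Z1 (le_inf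
      ((k K hK ((CB_anti hB₀.le).trans hC)).trans (core_le_qB two hK.mem hC))
      (ZC.trans (CB_anti hB₀.le))))
    have hC' := (CB_anti hB₀.le).trans hC
    exact le_bot_iff.1 (Y0 ▸ Y1 K hK hC' (ne_bot_of_le Z1 (k K hK hC')))
  obtain ⟨M₂, hM₂, l₂⟩ := exists_maxM (E.mem_sup mN mX nX)
  have in₂ : ∀ V, Mem p A θ V → IsPiSubgroup {2}ᶜ V → Z ≤ N[V] → V ≤ M₂ := fun V h1 h2 h3 =>
    split V h1 h2 h3 _ (le_sup_right.trans l₂)
      ((le_Nth (h1.inf_cent mZ.norm) (le_norm_of_cent inf_le_right)).trans (le_sup_left.trans l₂))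
  have TM : T ≤ M₂ := TN.trans (le_sup_left.trans l₂)
  have e₂ : piCoreOf {2}ᶜ M₂ = Y := by
    refine le_antisymm (maxY _ (hM₂.mem.core _) (piCoreOf_isPi _ _)
      (TM.trans (self_le_norm_piCoreOf _ _))) ?_
    obtain ⟨P, hP, nP, h1⟩ := coprime_exists_syl_ge two (.inl hM₂.mem.solv) hM₂.mem.norm
      (E.copA hM₂.mem) TM hT.pg hT.mem.norm
    rw [hT.max _ (hM₂.mem.of_le hP.le nP) (syl_isPGroup two hP) h1] at hP
    exact le_core_of_hall_norm hM₂.mem.solv hP (in₂ Y mY oY (ZT.trans nY)) oY nY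
  have fin : ∀ f ∈ A, f ≠ 1 → ∃ K, Mem p A θ K ∧ θ f ≤ K ∧ piCoreOf {2}ᶜ K ≤ Y := by
    intro f hf f1
    by_cases hq : Quiet p A θ f
    · obtain ⟨K, hK, hl⟩ := exists_maxM (E.mem hf f1)
      exact ⟨K, hK.mem, hl, Y1 K hK ((C_le hf f1).trans hl) (E.quiet_two hf f1 hq hK hl)⟩
    obtain ⟨q, M, hM, hl⟩ := E.exists_loud hf f1 hq
    have hl := hl f hf f1 hq
    have hC := (C_le hf f1).trans hl
    refine ⟨M, hM.max.mem, hl, ?_⟩
    by_cases h2 : piCoreOf {2} M = ⊥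
    swap
    · exact Y1 M hM.max hC h2
    by_cases e : M₂ = M
    · rw [← e, e₂]
    have l : piCoreOf {2}ᶜ M ≤ M₂ := in₂ _ (hM.max.mem.core _) (piCoreOf_isPi _ _)
      ((ZC.trans hC).trans (self_le_norm_piCoreOf _ _))
    have q2 : q ≠ 2 := by
      rintro rfl
      exact hM.ne (le_bot_iff.1 (h2 ▸ E.SM_W hM))
    obtain ⟨s, -, -, s1, -, s3⟩ := E.S4 hM hM₂ (ne_bot_of_le hM.ne
      (le_inf (((E.SM_W hM).trans (core_le_compl q2)).trans l) le_rfl)) e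
    have s2 : s ≠ 2 := by rintro rfl; exact s1 h2
    exact absurd (by rwa [inf_eq_left.2 ((core_le_compl s2).trans l)] at s3) s1
  refine E.nc (E.complete_of_lines hM₂.mem fun B hB => ?_)
  refine E.le_max_core (π := {2}ᶜ) hM₂ (by rwa [e₂]) (E.mem_CB hB.le (E.line_ne_bot hB)) ?_
  rw [e₂]
  have e : Y = ⨆ (f : G) (_ : f ∈ B) (_ : f ≠ 1), Y ⊓ C1[f] :=
    le_antisymm (E.gen_line_pts mY hB fun b hb b1 => le_iSup3 (S := fun f => Y ⊓ C1[f]) hb b1)
      (iSup_le fun _ => iSup_le fun _ => iSup_le fun _ => inf_le_left)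
  rw [e]
  refine le_norm_iSup fun f => le_norm_iSup fun hf => le_norm_iSup fun f1 => (CB_le hf f1).trans ?_
  have hfA := hB.le hf
  obtain ⟨K, hK, hl, h⟩ := fin f hfA f1
  have e1 : Y ⊓ C1[f] = piCoreOf {2}ᶜ K ⊓ θ f := le_antisymm
    (le_inf ((le_inf inf_le_left ((mY.cent f hfA f1).trans hl)).trans
      (inY K hK ((C_le hfA f1).trans hl))) (mY.cent f hfA f1))
    (inf_le_inf h (E.cent f hfA f1))
  rw [e1]
  exact le_norm_inf (hl.trans (self_le_norm_piCoreOf _ _)) (le_norm_self le_rfl)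

end CE

/-- the solvable signalizer functor theorem for `A` elementary abelian of odd order `p ^ 3` -/
theorem SF.complete (F : SF p A θ) : Complete p A θ :=
  complete_of_no_CE (fun _ _ E => E.false) _ A θ rfl F

end Cfsg.Agent.Sig
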