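import Cfsg.Agent.GT.PStab5
import Cfsg.Agent.BG.S03h
import Cfsg.Agent.PG.Frattini

/-! General lemmas on coprime action used for the solvable signalizer functor theorem. -/

set_option autoImplicit false
open Cfsg Subgroup Cfsg.Agent.GT Cfsg.Agent.BG
open scoped commutatorElement

namespace Cfsg.Agent.Sig
universe u
variable {G : Type u} [Group G] {π : Set ℕ} {p q r : ℕ} {A B D H K L N T U V X Y Z : Subgroup G}

/-- the elements normalizing `N` and centralizing `X` modulo `N` -/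
def cmod (N X : Subgroup G) : Subgroup G where
  carrier := {g | g ∈ N[N] ∧ ∀ x ∈ X, ⁅g, x⁆ ∈ N}
  one_mem' := ⟨one_mem _, fun x _ => by simp⟩
  mul_mem' := by
    rintro g h ⟨g1, g2⟩ ⟨h1, h2⟩
    refine ⟨mul_mem g1 h1, fun x hx => ?_⟩
    have : ⁅g * h, x⁆ = g * ⁅h, x⁆ * g⁻¹ * ⁅g, x⁆ := by simp [commutatorElement_def, mul_assoc]
    rw [this]
    exact mul_mem (conj_mem_of_mem_norm g1 (h2 x hx)) (g2 x hx)
  inv_mem' := by
    rintro g ⟨g1, g2⟩
    refine ⟨inv_mem g1, fun x hx => ?_⟩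
    have : ⁅g⁻¹, x⁆ = g⁻¹ * ⁅g, x⁆⁻¹ * g⁻¹⁻¹ := by simp [commutatorElement_def, mul_assoc]
    rw [this]
    exact conj_mem_of_mem_norm (inv_mem g1) (inv_mem (g2 x hx))

theorem le_cmod (h1 : H ≤ N[N]) (h2 : ⁅H, X⁆ ≤ N) : H ≤ cmod N X :=
  fun _ hg => ⟨h1 hg, fun _ hx => h2 (commutator_mem_commutator hg hx)⟩

theorem comm_le_of_le_cmod (h : H ≤ cmod N X) : ⁅H, X⁆ ≤ N :=
  commutator_le.2 fun _ hg x hx => (h hg).2 x hx

theorem comm_sup_le (h1 : H ≤ N[N]) (h2 : K ≤ N[N]) (h3 : ⁅H, X⁆ ≤ N) (h4 : ⁅K, X⁆ ≤ N) :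
    ⁅H ⊔ K, X⁆ ≤ N :=
  comm_le_of_le_cmod (sup_le (le_cmod h1 h3) (le_cmod h2 h4))

theorem comm_le_inf (h1 : H ≤ N[K]) (h2 : K ≤ N[H]) : ⁅H, K⁆ ≤ H ⊓ K :=
  le_inf (commutator_le_of_le_norm_left h2) (commutator_le_of_le_norm_right h1)

variable [Finite G]

/-- Hall-Higman 1.2.3 modulo `O_π` -/
theorem le_core2_of_comm (hs : Group.IsSolvable H) (hX : X ≤ H)
    (h : ⁅piCore2Of π πᶜ H, X⁆ ≤ piCoreOf π H) : X ≤ piCore2Of π πᶜ H := by
  obtain ⟨Q, _, _, f, -, hk⟩ := exists_quo' H (piCoreOf π H) (piCoreOf_le _ _)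
    (self_le_norm_piCoreOf _ _)
  have h0 : piCoreOf πᶜᶜ (im f H) = ⊥ := by rw [compl_compl]; exact piCoreOf_im_eq_bot le_rfl hk
  have h1 := inf_cent_piCoreOf_le (solvable_im (f := f) hs) h0
  rw [← pre_piCoreOf_of_kr_eq le_rfl hk, ← im_le_iff hX]
  refine le_trans (le_inf (im_mono hX) ?_) h1
  rw [← im_piCore2Of_of_kr_eq le_rfl hk, im_le_cent_iff hX (piCore2Of_le _ _ _), hk,
    commutator_comm]
  exact h

theorem le_core_of_le_core2 (hX : X ≤ piCore2Of π πᶜ H) (hπ : IsPiSubgroup π X) :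
    X ≤ piCoreOf π H := by
  have h := isPiHallOf_piCoreOf_piCore2Of (π := πᶜ) (H := H)
  rw [compl_compl] at h
  exact h.le_of_normal ((piCore2Of_le _ _ _).trans (self_le_norm_piCoreOf _ _)) hX hπ

/-- a `π`-subgroup centralizing `O_{π,π'}` modulo `O_π` lies in `O_π` -/
theorem le_core_of_comm (hs : Group.IsSolvable H) (hX : X ≤ H) (hπ : IsPiSubgroup π X)
    (h : ⁅piCore2Of π πᶜ H, X⁆ ≤ piCoreOf π H) : X ≤ piCoreOf π H :=
  le_core_of_le_core2 (le_core2_of_comm hs hX h) hπ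

/-- a `π'`-subgroup normalized by a Hall `π`-subgroup lies in `O_π'` -/
theorem le_core_of_hall_norm (hs : Group.IsSolvable H) (hT : IsPiHallOf π T H) (hY : Y ≤ H)
    (hπ : IsPiSubgroup πᶜ Y) (hn : T ≤ N[Y]) : Y ≤ piCoreOf πᶜ H := by
  refine le_core_of_comm hs hY hπ ?_
  rw [compl_compl, ← piCoreOf_sup_eq_piCore2Of (hall_inf_piCore2Of hT)]
  have hn0 : H ≤ N[piCoreOf πᶜ H] := self_le_norm_piCoreOf _ _
  refine comm_sup_le ((piCoreOf_le _ _).trans hn0) ((inf_le_left.trans hT.le).trans hn0)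
    (commutator_le_of_le_norm_left (hY.trans hn0)) ?_
  have h2 : ⁅T ⊓ piCore2Of πᶜ π H, Y⁆ ≤ piCore2Of πᶜ πᶜᶜ H := by
    rw [compl_compl]
    exact (commutator_mono inf_le_right le_rfl).trans
      (commutator_le_of_le_norm_left (hY.trans (self_le_norm_piCore2Of _ _ _)))
  exact le_core_of_le_core2 h2
    (hπ.of_le (commutator_le_of_le_norm_right (inf_le_left.trans hn)))

theorem center_le_core2 (hs : Group.IsSolvable H) (hT : IsPiHallOf π T H) (hZ : Z ≤ H)
    (hc : Z ≤ C[T]) : Z ≤ piCore2Of πᶜ π H :=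
  le_trans (le_inf hZ (hc.trans (cent_anti inf_le_left))) (inf_cent_le_piCore2Of_of_hall hs hT)

theorem comm_le_core_of_center (hs : Group.IsSolvable H) (hT : IsPiHallOf π T H) (hZ : Z ≤ H)
    (hc : Z ≤ C[T]) (hY : Y ≤ H) (hπ : IsPiSubgroup πᶜ Y) (hn : Z ≤ N[Y]) :
    ⁅Y, Z⁆ ≤ piCoreOf πᶜ H := by
  have h2 : ⁅Y, Z⁆ ≤ piCore2Of πᶜ πᶜᶜ H := by
    rw [compl_compl]
    exact (commutator_mono le_rfl (center_le_core2 hs hT hZ hc)).trans
      (commutator_le_of_le_norm_right (hY.trans (self_le_norm_piCore2Of _ _ _)))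
  exact le_core_of_le_core2 h2 (hπ.of_le (commutator_le_of_le_norm_left hn))

/-- the subgroup generated by the `[C_D(b), Z]`, `b ∈ B^#` -/
def genC (D B Z : Subgroup G) : Subgroup G := ⨆ (b : G) (_ : b ∈ B) (_ : b ≠ 1), ⁅D ⊓ C1[b], Z⁆

omit [Finite G] in
theorem le_genC {b : G} (hb : b ∈ B) (h1 : b ≠ 1) : ⁅D ⊓ C1[b], Z⁆ ≤ genC D B Z :=
  le_iSup_of_le b (le_iSup_of_le hb (le_iSup_of_le h1 le_rfl))

omit [Finite G] in
theorem genC_le (h : ∀ b ∈ B, b ≠ 1 → ⁅D ⊓ C1[b], Z⁆ ≤ X) : genC D B Z ≤ X :=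
  iSup_le fun b => iSup_le fun hb => iSup_le fun h1 => h b hb h1

omit [Finite G] in
theorem le_norm_iSup {ι : Sort*} {S : ι → Subgroup G} (h : ∀ i, A ≤ N[S i]) :
    A ≤ N[⨆ i, S i] :=
  le_norm_sSup (by rintro _ ⟨i, rfl⟩; exact h i)

theorem comm_le_genC_aux (n : ℕ) : ∀ {G : Type u} [Group G] [Finite G] {D B Z : Subgroup G},
    Nat.card D = n → Group.IsSolvable D → IsMulCommutative B → ¬ IsCyclic B → B ≤ N[D] →
    Z ≤ N[D] → Z ≤ C[B] → (Nat.card D).Coprime (Nat.card B) → (Nat.card D).Coprime (Nat.card Z) →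
    ⁅D, Z⁆ ≤ genC D B Z := by
  induction n using Nat.strong_induction_on with
  | _ n ih =>
  intro G _ _ D B Z hn hs hB hnc hBD hZD hZB cB cZ
  by_cases hD : D = ⊥
  · subst hD; simp
  obtain ⟨V, t, hVD, hV, -, he⟩ := exists_minNormal_elementary hD
    (sup_le (sup_le (le_norm_self le_rfl) hBD) hZD) hs
  have nD : D ≤ N[V] := (le_sup_left.trans le_sup_left).trans hV.norm
  have nB : B ≤ N[V] := (le_sup_right.trans le_sup_left).trans hV.norm
  have nZ : Z ≤ N[V] := le_sup_right.trans hV.norm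
  obtain ⟨Q, _, _, f, -, hk⟩ := exists_quo' (D ⊔ B ⊔ Z) V
    (hVD.trans (le_sup_left.trans le_sup_left)) hV.norm
  have dD : D ≤ D ⊔ B ⊔ Z := le_sup_left.trans le_sup_left
  have dB : B ≤ D ⊔ B ⊔ Z := le_sup_right.trans le_sup_left
  have dZ : Z ≤ D ⊔ B ⊔ Z := le_sup_right
  have hLD : genC D B Z ≤ D := genC_le fun b hb _ =>
    (commutator_mono inf_le_left le_rfl).trans (commutator_le_of_le_norm_left hZD)
  have hZL : Z ≤ N[genC D B Z] := by
    refine le_norm_iSup fun b => le_norm_iSup fun hb => le_norm_iSup fun _ => ?_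
    exact le_norm_commutator (le_norm_inf hZD (le_norm_cent1 (hZB.trans (cent_le_cent1 hb))))
      (le_norm_self le_rfl)
  -- the abelian part
  have hVZ : ⁅V, Z⁆ ≤ genC D B Z := by
    have : V ≤ cmod (genC D B Z ⊓ V) Z := by
      have hc : V ≤ N[genC D B Z ⊓ V] :=
        le_norm_of_cent (le_cent_symm (inf_le_right.trans (isMulCommutative_iff_le_cent.1 he.1)))
      refine coprime_abelian_gen_cent1 hB hnc nB (coprime_card_of_le cB hVD le_rfl)
        fun b hb h1 => le_cmod (inf_le_left.trans hc) (le_inf ?_ ?_)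
      · exact (commutator_mono (inf_le_inf_right _ hVD) le_rfl).trans (le_genC hb h1)
      · exact (commutator_mono inf_le_left le_rfl).trans (commutator_le_of_le_norm_left nZ)
    exact (comm_le_of_le_cmod this).trans inf_le_left
  have hBk : B ⊓ kr f = ⊥ := by
    rw [hk]; exact inf_eq_bot_of_coprime_card (coprime_card_of_le cB hVD le_rfl).symm
  have hq := ih _ (hn ▸ card_im_lt dD (by rw [hk, inf_eq_right.2 hVD]; exact hV.ne_bot))
    (D := im f D) (B := im f B) (Z := im f Z) rfl (solvable_im hs) (comm_im hB)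
    (fun hc => hnc (by
      obtain ⟨e⟩ := nonempty_equiv_im dB hBk
      exact isCyclic_of_surjective e.symm e.symm.surjective))
    (im_norm hBD) (im_norm hZD) (im_cent hZB) (coprime_im cB) (coprime_im cZ)
  have h2 : genC (im f D) (im f B) (im f Z) ≤ im f (genC D B Z) := by
    refine genC_le fun y hy h1 => ?_
    obtain ⟨b, hbD, hb, rfl⟩ := mem_im.1 hy
    have hb1 : b ≠ 1 := by
      rintro rfl
      exact h1 (map_one f)
    rw [← im_inf_cent1_of_coprime dD hbD (hBD hb)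
      ((Nat.Coprime.coprime_dvd_left (card_dvd_of_le inf_le_left) cB).coprime_dvd_right
        (orderOf_dvd_card_of_mem hb)), ← im_commutator (inf_le_left.trans dD) dZ]
    exact im_mono (le_genC hb hb1)
  have h3 : ⁅D, Z⁆ ≤ genC D B Z ⊔ V := by
    rw [← hk, ← im_le_im_iff ((commutator_le_of_le_norm_left hZD).trans dD) (hLD.trans dD),
      im_commutator dD dZ]
    exact hq.trans h2
  rw [← coprime_commutator_commutator (.inl hs) hZD cZ]
  refine (commutator_le_of_forall_mul_cent (N := genC D B Z) fun x hx => ?_).trans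
    (commutator_le_of_le_norm_left hZL)
  obtain ⟨l, hl, v, hv, rfl⟩ := (mem_sup_of_le_norm (hLD.trans nD)).1 (h3 hx)
  obtain ⟨m, hm, c, hc, rfl⟩ := coprime_exists_mul (.inl (solvable_of_comm he.1)) nZ
    (coprime_card_of_le cZ hVD le_rfl) hv
  exact ⟨l * m, mul_mem hl (hVZ hm), c, hc.2, (mul_assoc _ _ _).symm⟩

/-- `[D, Z] = ⟨[C_D(b), Z] : b ∈ B^#⟩` -/
theorem comm_le_of_gen (hs : Group.IsSolvable D) (hB : IsMulCommutative B) (hnc : ¬ IsCyclic B)
    (hBD : B ≤ N[D]) (hZD : Z ≤ N[D]) (hZB : Z ≤ C[B]) (cB : (Nat.card D).Coprime (Nat.card B))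
    (cZ : (Nat.card D).Coprime (Nat.card Z)) (h : ∀ b ∈ B, b ≠ 1 → ⁅D ⊓ C1[b], Z⁆ ≤ X) :
    ⁅D, Z⁆ ≤ X :=
  (comm_le_genC_aux _ rfl hs hB hnc hBD hZD hZB cB cZ).trans (genC_le h)

theorem rfl_aux (n : ℕ) : ∀ {G : Type u} [Group G] [Finite G] {U R V : Subgroup G},
    Nat.card V = n → Group.IsSolvable V → Group.IsSolvable U → (Nat.card R).Prime →
    Odd (Nat.card R) → R ≤ N[U] → (Nat.card U).Coprime (Nat.card R) →
    (Odd (Nat.card U) ∨ IsMulCommutative U) → U ⊔ R ≤ N[V] →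
    (Nat.card V).Coprime (Nat.card ↥(U ⊔ R)) → V ⊓ C[R] ≤ C[U] → ⁅U, R⁆ ≤ C[V] := by
  induction n using Nat.strong_induction_on with
  | _ n ih =>
  intro G _ _ U R V hn hs hsU hR oR hRU cUR hU hL hc hC
  by_cases hV : V = ⊥
  · subst hV; rw [cent_bot]; exact le_top
  obtain ⟨W, t, Q, _, _, f, hWV, ht, he, nW, htL, hlt, -, hcard, hcent, -, hfin⟩ :=
    exists_coprime_step hL hc hs hV
  have dU : U ≤ V ⊔ (U ⊔ R) := le_sup_left.trans le_sup_right
  have dR : R ≤ V ⊔ (U ⊔ R) := le_sup_right.trans le_sup_right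
  have hUR : ⁅U, R⁆ ≤ U := commutator_le_of_le_norm_left hRU
  refine hfin _ (hUR.trans le_sup_left) ?_ ?_
  · have nU : U ≤ N[W] := le_sup_left.trans nW
    have cW : (Nat.card W).Coprime (Nat.card ↥(U ⊔ R)) := coprime_card_of_le hc hWV le_rfl
    have cWU : (Nat.card W).Coprime (Nat.card U) := coprime_card_of_le cW le_rfl le_sup_left
    have h1 : ⁅W, U⁆ ≤ W := commutator_le_of_le_norm_left nU
    have n1 : U ⊔ R ≤ N[⁅W, U⁆] := le_norm_commutator nW (sup_le (le_norm_self le_rfl) hRU)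
    have h0 : ⁅W, U⁆ ⊓ C[R] = ⊥ := by
      rw [eq_bot_iff, ← coprime_comm_commutator_inf_cent he.1 nU cWU]
      exact le_inf inf_le_left ((inf_le_inf_right _ (h1.trans hWV)).trans hC)
    have h2 : ⁅U, R⁆ ≤ C[⁅W, U⁆] := by
      rcases hU with hU | hU
      · exact cent1_aux' _ rfl hRU cUR hU oR hR n1 (coprime_card_of_le cW h1 le_rfl)
          (solv_of_le (solvable_of_comm he.1) h1) h0
      · have hreg : Semiregular ⁅U, R⁆ R :=
          semiregular_of_prime hR (coprime_comm_commutator_inf_cent hU hRU cUR)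
        refine semiregular_cent_compl ht ⟨isMulCommutative_of_le he.1 h1, fun x hx => he.2 x (h1 hx)⟩
          (le_norm_commutator hRU (le_norm_self le_rfl)) hreg
          ((sup_le_sup_right hUR _).trans n1)
          (fun hd => htL (hd.trans (card_dvd_of_le (hUR.trans le_sup_left)))) h0
    rw [← coprime_commutator_sup_cent (.inr hsU) nU cWU, cent_sup]
    exact le_inf h2 (hUR.trans (le_cent_symm inf_le_right))
  · rw [im_commutator dU dR]
    refine ih _ (hn ▸ hlt) rfl (solvable_im hs) (solvable_im hsU) (by rw [hcard _ le_sup_right]; exact hR)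
      (by rw [hcard _ le_sup_right]; exact oR) (im_norm hRU) (coprime_im cUR)
      (hU.imp odd_im comm_im) (by rw [← im_sup dU dR]; exact im_norm hL)
      (by rw [← im_sup dU dR]; exact coprime_im hc) ?_
    rw [← hcent _ le_sup_right]
    exact im_cent hC

/-- relative Frobenius lemma -/
theorem rfl_core (hr : r.Prime) {R : Subgroup G} (hs : Group.IsSolvable H)
    (hR : (Nat.card R).Prime) (oR : Odd (Nat.card R)) (hRH : R ≤ N[H])
    (hc : (Nat.card H).Coprime (Nat.card R)) (hUH : U ≤ H) (hU : IsPGroup r U) (hRU : R ≤ N[U])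
    (hodd : r ≠ 2 ∨ IsMulCommutative U) (hC : H ⊓ C[R] ≤ N[U]) : ⁅U, R⁆ ≤ piCoreOf {r} H := by
  have hUR : ⁅U, R⁆ ≤ U := commutator_le_of_le_norm_left hRU
  refine le_core_of_comm hs (hUR.trans hUH) ((isPi_of_isPGroup hr hU).of_le hUR) ?_
  obtain ⟨Q, _, _, f, -, hk⟩ := exists_quo' (H ⊔ R) (piCoreOf {r} H)
    ((piCoreOf_le _ _).trans le_sup_left)
    (sup_le (self_le_norm_piCoreOf _ _) (le_norm_piCoreOf hRH))
  have dH : H ≤ H ⊔ R := le_sup_left
  have dR : R ≤ H ⊔ R := le_sup_right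
  have dU : U ≤ H ⊔ R := hUH.trans dH
  have hV2 : piCore2Of {r} {r}ᶜ H ≤ H := piCore2Of_le _ _ _
  rw [← hk, commutator_comm, ← im_le_cent_iff (hUR.trans dU) (hV2.trans dH), im_commutator dU dR]
  have cR : Nat.card (im f R) = Nat.card R := card_im_of_inf_eq_bot dR (by
    rw [hk]; exact inf_eq_bot_of_coprime_card (coprime_card_of_le hc (piCoreOf_le _ _) le_rfl).symm)
  have hV : IsPiSubgroup {r}ᶜ (im f (piCore2Of {r} {r}ᶜ H)) := by
    rw [im_piCore2Of_of_kr_eq dH hk]; exact piCoreOf_isPi _ _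
  have hUi : IsPiSubgroup {r} (im f U) := (isPi_of_isPGroup hr hU).im
  have nV : U ⊔ R ≤ N[piCore2Of {r} {r}ᶜ H] :=
    sup_le (hUH.trans (self_le_norm_piCore2Of _ _ _)) (le_norm_piCore2Of hRH)
  refine rfl_aux _ rfl (solvable_im (solv_of_le hs hV2)) (solvable_im (solv_of_le hs hUH))
    (cR ▸ hR) (cR ▸ oR) (im_norm hRU) (coprime_im (coprime_card_of_le hc hUH le_rfl)) ?_
    (by rw [← im_sup dU dR]; exact im_norm nV) ?_ ?_
  · refine hodd.imp (fun h2 => ?_) comm_im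
    haveI := Fact.mk hr
    obtain ⟨k, hk⟩ := (IsPGroup.iff_card (p := r)).1 (isPGroup_im (f := f) hU)
    rw [hk]; exact (hr.odd_of_ne_two h2).pow
  · refine Nat.Coprime.coprime_dvd_right (card_sup_dvd (.inr (im_norm hRU))) ?_
    exact Nat.Coprime.mul_right (hV.coprime' hUi)
      (coprime_im (coprime_card_of_le hc hV2 le_rfl))
  · rw [← im_inf_cent_of_coprime' (hV2.trans dH) dR (le_sup_right.trans nV)
      (.inl (solv_of_le hs hV2)) (coprime_card_of_le hc hV2 le_rfl)]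
    rw [le_cent_iff_commutator_eq_bot, eq_bot_iff, ← hV.inf_eq_bot' hUi]
    refine le_inf ((commutator_mono (im_mono inf_le_left) le_rfl).trans
      (commutator_le_of_le_norm_left (im_norm (le_sup_left.trans nV))))
      (commutator_le_of_le_norm_right (im_norm ((inf_le_inf_right _ hV2).trans hC)))

end Cfsg.Agent.Sig
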