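import Cfsg.Agent.Sig.L

set_option autoImplicit false
open Cfsg Subgroup Cfsg.Agent.GT Cfsg.Agent.BG
open scoped commutatorElement

namespace Cfsg.Agent.Sig
universe u
variable {G : Type u} [Group G] [Finite G]

/-- One side of the amalgam. -/
structure Side (p q : ℕ) (B P L Q R : Subgroup G) : Prop where
  QP : Q ≤ P
  PL : P ≤ L
  QR : Q ≤ R
  RL : R ≤ L
  nQ : L ≤ N[Q]
  nR : L ≤ N[R]
  solv : Group.IsSolvable L
  cop : ¬ p ∣ Nat.card L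
  idx : ¬ q ∣ Q.relIndex R
  chr : L ⊓ C[Q] ≤ Q
  faith : ∀ x ∈ P, ⁅R, zpowers x⁆ ≤ Q → x ∈ Q
  cenB : R ⊓ C[B] ≤ N[P]
  gen : L = R ⊔ P ∨ P ≤ Q

end Cfsg.Agent.Sig
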